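import Mathlib
import Groth.Prelude.Def_QFDual
import Groth.Agent.H73.DiffBCOmega

/-!
# `ω` of a direct factor

Let `S` be an `R`-algebra, `e ∈ S` an idempotent and `S → C` a surjection with kernel `(1 - e)`
(so `C` is the direct factor `eS` of `S`).  Then restriction `Hom_R(S, R) → Hom_R(C, R)`,
`φ ↦ (c ↦ φ (e · c̃))`, is a base change along `S → C`; in particular
`C ⊗_S Hom_R(S, R) ≅ Hom_R(C, R)`, which is `R`-flat when `C` is finite projective over `R`.
-/

set_option autoImplicit false
set_option linter.style.haveILetI false
set_option linter.unusedSectionVars false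
universe u

namespace Groth.Agent.H78.QFFlat

open TensorProduct Groth.Agent.H73.DiffBCOmega

attribute [local instance] iA iB iA2 tA tB tAA' tAB

variable {R S C : Type u} [CommRing R] [CommRing S] [CommRing C] [Algebra R S] [Algebra S C]
  [Algebra R C] [IsScalarTower R S C] {e : S}

theorem mul_eq_of_algebraMap_eq (hker : RingHom.ker (algebraMap S C) = Ideal.span {1 - e})
    (he : IsIdempotentElem e) {s s' : S} (h : algebraMap S C s = algebraMap S C s') :
    e * s = e * s' := by
  have h1 : s - s' ∈ RingHom.ker (algebraMap S C) := by
    rw [RingHom.mem_ker, map_sub, h, sub_self]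
  rw [hker] at h1
  obtain ⟨t, ht⟩ := Ideal.mem_span_singleton'.mp h1
  have h2 : e * (s - s') = 0 := by
    rw [← ht]
    have : e * (t * (1 - e)) = t * (e - e * e) := by ring
    rw [this, he.eq, sub_self, mul_zero]
  rw [mul_sub, sub_eq_zero] at h2
  exact h2

/-- The restriction map `Hom_R(S, R) → Hom_R(C, R)` to the direct factor `C = eS`. -/
noncomputable def res (hsurj : Function.Surjective (algebraMap S C))
    (hker : RingHom.ker (algebraMap S C) = Ideal.span {1 - e}) (he : IsIdempotentElem e) :
    Disc.Omega R S →ₗ[S] Disc.Omega R C where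
  toFun φ :=
    ⟨{ toFun := fun c => φ.toLinearMap (e * Function.surjInv hsurj c)
       map_add' := fun c c' => by
        rw [← map_add, ← mul_add]
        congr 1
        apply mul_eq_of_algebraMap_eq hker he
        rw [map_add, Function.surjInv_eq hsurj, Function.surjInv_eq hsurj,
          Function.surjInv_eq hsurj]
       map_smul' := fun r c => by
        rw [RingHom.id_apply, ← map_smul]
        congr 1
        rw [← mul_smul_comm]
        apply mul_eq_of_algebraMap_eq hker he
        rw [Function.surjInv_eq hsurj, Algebra.smul_def, Algebra.smul_def, map_mul,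
          Function.surjInv_eq hsurj, ← IsScalarTower.algebraMap_apply] }⟩
  map_add' φ ψ := by
    apply Disc.Omega.ext
    ext c
    rfl
  map_smul' s φ := by
    apply Disc.Omega.ext
    ext c
    change φ.toLinearMap (s * (e * Function.surjInv hsurj c)) =
      φ.toLinearMap (e * Function.surjInv hsurj (algebraMap S C s * c))
    congr 1
    rw [mul_left_comm]
    apply mul_eq_of_algebraMap_eq hker he
    rw [map_mul, Function.surjInv_eq hsurj, Function.surjInv_eq hsurj]

theorem res_apply (hsurj : Function.Surjective (algebraMap S C))
    (hker : RingHom.ker (algebraMap S C) = Ideal.span {1 - e}) (he : IsIdempotentElem e)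
    (φ : Disc.Omega R S) (s : S) :
    (res hsurj hker he φ).toLinearMap (algebraMap S C s) = φ.toLinearMap (e * s) := by
  change φ.toLinearMap (e * Function.surjInv hsurj (algebraMap S C s)) = _
  congr 1
  apply mul_eq_of_algebraMap_eq hker he
  rw [Function.surjInv_eq hsurj]

theorem algebraMap_idem (hker : RingHom.ker (algebraMap S C) = Ideal.span {1 - e}) :
    algebraMap S C e = 1 := by
  have : (1 - e) ∈ RingHom.ker (algebraMap S C) := by
    rw [hker]; exact Ideal.subset_span rfl
  rw [RingHom.mem_ker, map_sub, map_one, sub_eq_zero] at this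
  exact this.symm

theorem isLocalizedModule_res (hsurj : Function.Surjective (algebraMap S C))
    (hker : RingHom.ker (algebraMap S C) = Ideal.span {1 - e}) (he : IsIdempotentElem e) :
    IsLocalizedModule (Submonoid.powers e) (res (R := R) hsurj hker he) where
  map_units := by
    rintro ⟨x, n, rfl⟩
    have : algebraMap S (Module.End S (Disc.Omega R C)) (e ^ n) = 1 := by
      ext φ c
      change φ.toLinearMap (algebraMap S C (e ^ n) * c) = φ.toLinearMap c
      rw [map_pow, algebraMap_idem hker, one_pow, one_mul]
    rw [this]
    exact isUnit_one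
  surj := by
    intro ψ
    refine ⟨⟨⟨ψ.toLinearMap ∘ₗ (IsScalarTower.toAlgHom R S C).toLinearMap⟩, 1⟩, ?_⟩
    rw [one_smul]
    apply Disc.Omega.ext
    ext c
    obtain ⟨s, rfl⟩ := hsurj c
    rw [res_apply]
    change _ = ψ.toLinearMap (algebraMap S C (e * s))
    rw [map_mul, algebraMap_idem hker, one_mul]
  exists_of_eq := by
    intro φ ψ h
    refine ⟨⟨e, Submonoid.mem_powers e⟩, ?_⟩
    apply Disc.Omega.ext
    ext s
    change φ.toLinearMap (e * s) = ψ.toLinearMap (e * s)
    rw [← res_apply hsurj hker he, ← res_apply hsurj hker he, h]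

theorem isBaseChange_res (hsurj : Function.Surjective (algebraMap S C))
    (hker : RingHom.ker (algebraMap S C) = Ideal.span {1 - e}) (he : IsIdempotentElem e) :
    IsBaseChange C (res (R := R) hsurj hker he) := by
  haveI : IsLocalization.Away e C := IsLocalization.away_of_isIdempotentElem he hker hsurj
  haveI := isLocalizedModule_res (R := R) hsurj hker he
  exact (isLocalizedModule_iff_isBaseChange (Submonoid.powers e) C _).mp inferInstance

end Groth.Agent.H78.QFFlat
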