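import Mathlib

/-!
# Descent of flatness over a base ring along a faithfully flat extension of the acting ring

Let `N` be an `S`-module, `S` an `R`-algebra, `C` a faithfully flat `S`-algebra.  If `C ⊗_S N` is
flat over `R`, then `N` is flat over `R`.
-/

set_option autoImplicit false
set_option linter.style.haveILetI false
universe u

namespace Groth.Agent.H78.QFFlat

open TensorProduct

theorem flat_of_faithfullyFlat_tensor (R S C N : Type u) [CommRing R] [CommRing S] [Algebra R S]
    [CommRing C] [Algebra S C] [Algebra R C] [IsScalarTower R S C] [Module.FaithfullyFlat S C]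
    [AddCommGroup N] [Module R N] [Module S N] [IsScalarTower R S N]
    (h : Module.Flat R (C ⊗[S] N)) : Module.Flat R N := by
  rw [Module.Flat.iff_lTensor_preserves_injective_linearMap]
  intro P' P _ _ _ _ f hf
  have h1 : Function.Injective (LinearMap.lTensor (C ⊗[S] N) f) :=
    Module.Flat.lTensor_preserves_injective_linearMap f hf
  -- the `S`-linear version of `lTensor N f`
  let g : N ⊗[R] P' →ₗ[S] N ⊗[R] P := TensorProduct.AlgebraTensorModule.lTensor S N f
  have hg : ∀ x, g x = LinearMap.lTensor N f x := fun x => rfl
  suffices hinj : Function.Injective g by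
    intro x y hxy
    exact hinj (by rw [hg, hg, hxy])
  rw [← Module.FaithfullyFlat.lTensor_injective_iff_injective S C]
  have key : LinearMap.lTensor C g =
      (TensorProduct.AlgebraTensorModule.assoc R S S C N P).toLinearMap ∘ₗ
        (TensorProduct.AlgebraTensorModule.lTensor S (C ⊗[S] N) f) ∘ₗ
        (TensorProduct.AlgebraTensorModule.assoc R S S C N P').symm.toLinearMap := by
    ext c n p
    simp [g]
  rw [key]
  simp only [LinearMap.coe_comp, LinearEquiv.coe_coe]
  refine (LinearEquiv.injective _).comp (Function.Injective.comp ?_ (LinearEquiv.injective _))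
  intro x y hxy
  exact h1 hxy

end Groth.Agent.H78.QFFlat
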