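import Mathlib
import Groth.Agent.H3.HenselQF

/-!
# The local factor of a finite algebra over a henselian local ring at a closed point
-/

set_option autoImplicit false
set_option linter.style.haveILetI false
universe u

namespace Groth.Agent.H78.QFFlat

open IsLocalRing

/-- For a finite algebra `S` over a henselian local ring `R` and a prime `n` of `S` over the closed
point there is an idempotent `e ∉ n` such that `S ⧸ (1 - e)` is a local ring, finite over `R`,
whose closed point is `n`. -/
theorem exists_local_factor (R : Type u) [CommRing R] [HenselianLocalRing R] (S : Type u)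
    [CommRing S] [Algebra R S] [Module.Finite R S] (n : Ideal S) [n.IsPrime]
    [n.LiesOver (maximalIdeal R)] :
    ∃ e : S, IsIdempotentElem e ∧ e ∉ n ∧ Module.Finite R (S ⧸ Ideal.span {1 - e}) ∧
      ∃ _ : IsLocalRing (S ⧸ Ideal.span {1 - e}),
        (maximalIdeal (S ⧸ Ideal.span {1 - e})).comap (Ideal.Quotient.mk _) = n := by
  obtain ⟨e, he, hen, hfin, huniq⟩ := Groth.Agent.H3.exists_idempotent_of_quasiFiniteAt R S n
  refine ⟨e, he, hen, hfin, ?_⟩
  set J : Ideal S := Ideal.span {1 - e} with hJ
  have h1e : (1 - e) ∈ n := by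
    have h0 : e * (1 - e) ∈ n := by
      have : e * (1 - e) = e - e * e := by ring
      rw [this, he.eq, sub_self]
      exact n.zero_mem
    exact (Ideal.IsPrime.mem_or_mem ‹n.IsPrime› h0).resolve_left hen
  have hJn : J ≤ n := by
    rw [hJ, Ideal.span_le, Set.singleton_subset_iff]
    exact h1e
  -- every maximal ideal of the quotient pulls back to `n`
  have hmax : ∀ M : Ideal (S ⧸ J), M.IsMaximal → M.comap (Ideal.Quotient.mk J) = n := by
    intro M hM
    haveI := hM.isPrime
    let Q : Ideal S := M.comap (Ideal.Quotient.mk J)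
    haveI : Q.IsPrime := Ideal.comap_isPrime _ _
    have heQ : e ∉ Q := by
      intro h
      have h1 : (1 - e) ∈ Q := by
        change Ideal.Quotient.mk J (1 - e) ∈ M
        have h0 : Ideal.Quotient.mk J (1 - e) = 0 :=
          Ideal.Quotient.eq_zero_iff_mem.mpr (Ideal.subset_span rfl)
        rw [h0]
        exact M.zero_mem
      have : (1 : S) ∈ Q := by
        have := Q.add_mem h1 h
        simpa using this
      exact (Ideal.IsPrime.ne_top ‹Q.IsPrime›) ((Ideal.eq_top_iff_one Q).mpr this)
    have hQover : Q.LiesOver (maximalIdeal R) := by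
      constructor
      haveI : Algebra.IsIntegral R (S ⧸ J) := inferInstance
      have hMc : (M.comap (algebraMap R (S ⧸ J))).IsMaximal :=
        Ideal.isMaximal_comap_of_isIntegral_of_isMaximal (R := R) M
      have := eq_maximalIdeal hMc
      rw [← this]
      rfl
    exact huniq Q inferInstance hQover heQ
  have hne : Nontrivial (S ⧸ J) := by
    rw [Ideal.Quotient.nontrivial_iff]
    intro h
    exact (Ideal.IsPrime.ne_top ‹n.IsPrime›) (top_le_iff.mp (h ▸ hJn))
  have hloc : IsLocalRing (S ⧸ J) := by
    refine IsLocalRing.of_unique_max_ideal ?_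
    obtain ⟨M, hM⟩ := Ideal.exists_maximal (S ⧸ J)
    refine ⟨M, hM, fun M' hM' => ?_⟩
    have h1 := hmax M hM
    have h2 := hmax M' hM'
    have := congrArg (Ideal.map (Ideal.Quotient.mk J)) (h2.trans h1.symm)
    rwa [Ideal.map_comap_of_surjective _ Ideal.Quotient.mk_surjective,
      Ideal.map_comap_of_surjective _ Ideal.Quotient.mk_surjective] at this
  exact ⟨hloc, hmax _ (maximalIdeal.isMaximal _)⟩

/-- In the situation of `exists_local_factor`, the local factor is the localization at `n`. -/
theorem isLocalization_atPrime_factor {S : Type u} [CommRing S] (e : S) (he : IsIdempotentElem e)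
    [IsLocalRing (S ⧸ Ideal.span {1 - e})] (n : Ideal S) [n.IsPrime]
    (hn : (maximalIdeal (S ⧸ Ideal.span {1 - e})).comap (Ideal.Quotient.mk _) = n) :
    IsLocalization.AtPrime (S ⧸ Ideal.span {1 - e}) n where
  map_units := by
    rintro ⟨s, hs⟩
    change IsUnit (Ideal.Quotient.mk _ s)
    by_contra hnu
    apply hs
    rw [← hn]
    exact (IsLocalRing.mem_maximalIdeal _).mpr hnu
  surj := by
    intro c
    obtain ⟨s, rfl⟩ := Ideal.Quotient.mk_surjective c
    exact ⟨⟨s, 1⟩, by simp⟩
  exists_of_eq := by
    intro x y h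
    have hen : e ∉ n := by
      rw [← hn]
      intro h'
      have h1 : Ideal.Quotient.mk (Ideal.span {1 - e}) e = 1 := by
        have : Ideal.Quotient.mk (Ideal.span {1 - e}) (1 - e) = 0 :=
          Ideal.Quotient.eq_zero_iff_mem.mpr (Ideal.subset_span rfl)
        rw [map_sub, map_one, sub_eq_zero] at this
        exact this.symm
      rw [Ideal.mem_comap, h1] at h'
      exact (Ideal.IsPrime.ne_top inferInstance) ((Ideal.eq_top_iff_one _).mpr h')
    refine ⟨⟨e, hen⟩, ?_⟩
    have h1 : x - y ∈ Ideal.span {1 - e} := by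
      rw [← Ideal.Quotient.eq]
      exact h
    obtain ⟨t, ht⟩ := Ideal.mem_span_singleton'.mp h1
    have h2 : e * (x - y) = 0 := by
      rw [← ht]
      have : e * (t * (1 - e)) = t * (e - e * e) := by ring
      rw [this, he.eq, sub_self, mul_zero]
    rw [mul_sub, sub_eq_zero] at h2
    exact h2

end Groth.Agent.H78.QFFlat
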