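import Mathlib
import Groth.Prelude.Def_QFDual
import Groth.Agent.S8958
import Groth.Agent.H78.QFFlat.Factor
import Groth.Agent.H78.QFFlat.Descent
import Groth.Agent.H78.QFFlat.LocalFactor

/-!
# Local structure of a finite algebra after a henselian flat base change, and flatness of `ω`
-/

set_option autoImplicit false
set_option linter.style.haveILetI false
set_option linter.unusedSectionVars false
universe u

namespace Groth.Agent.H78.QFFlat

open TensorProduct IsLocalRing Groth.Agent.H73.DiffBCOmega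

section Flatness

variable {A B' A₁ B'₁ : Type u} [CommRing A] [CommRing B'] [CommRing A₁] [CommRing B'₁]
  [Algebra A B'] [Algebra A A₁]
  [Algebra B' B'₁] [Algebra A₁ B'₁] [Algebra A B'₁] [IsScalarTower A A₁ B'₁]
  [IsScalarTower A B' B'₁]

/-- Base change of a flat localization: if `B'_{q₀}` is `A`-flat then the localization of
`B'₁ = A₁ ⊗_A B'` at the image of `B' ∖ q₀` is `A₁`-flat. -/
theorem flat_localization_baseChange (h : Algebra.IsPushout A A₁ B' B'₁) (q₀ : Ideal B')
    [q₀.IsPrime] [Module.Flat A (Localization.AtPrime q₀)] :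
    Module.Flat A₁ (Localization (Algebra.algebraMapSubmonoid B'₁ q₀.primeCompl)) := by
  set T' := Localization (Algebra.algebraMapSubmonoid B'₁ q₀.primeCompl)
  set S₀ := Localization.AtPrime q₀
  haveI : IsScalarTower A S₀ T' := by
    refine IsScalarTower.of_algebraMap_eq fun a => ?_
    rw [IsScalarTower.algebraMap_apply A B' T', IsScalarTower.algebraMap_apply B' S₀ T',
      ← IsScalarTower.algebraMap_apply A B' S₀]
  have h1 : Algebra.IsPushout B' B'₁ S₀ T' :=
    Algebra.isPushout_of_isLocalization q₀.primeCompl S₀ B'₁ T'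
  haveI : Algebra.IsPushout A B' A₁ B'₁ := h.symm
  have h2 : Algebra.IsPushout A S₀ A₁ T' :=
    (Algebra.IsPushout.comp_iff A B' A₁ (S' := B'₁) (T := S₀) (T' := T')).mpr h1.symm
  exact Module.Flat.isBaseChange A A₁ S₀ T' h2.symm.out

end Flatness

section Main

attribute [local instance] iA iB iA2 tA tB tAA' tAB

variable {A B' A₁ B'₁ : Type u} [CommRing A] [CommRing B'] [CommRing A₁] [CommRing B'₁]
  [IsNoetherianRing A] [IsNoetherianRing A₁] [Algebra A B'] [Module.Finite A B'] [Algebra A A₁]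
  [Module.Flat A A₁]
  [Algebra B' B'₁] [Algebra A₁ B'₁] [Algebra A B'₁] [IsScalarTower A A₁ B'₁]
  [IsScalarTower A B' B'₁]

/-- Core statement: after a flat base change to a henselian local ring `A₁`, if `n` is a prime of
`B'₁` over the closed point of `A₁` and over `q₀`, then `ω_{q₀}` is `A`-flat as soon as `B'_{q₀}`
is. -/
theorem flat_localization_omega_of_henselian (h : Algebra.IsPushout A A₁ B' B'₁)
    [HenselianLocalRing A₁] (q₀ : Ideal B') [q₀.IsPrime]
    [Module.Flat A (Localization.AtPrime q₀)] (n : Ideal B'₁) [n.IsPrime]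
    [n.LiesOver (maximalIdeal A₁)] (hn : n.comap (algebraMap B' B'₁) = q₀) :
    Module.Flat A (Localization.AtPrime q₀ ⊗[B'] Disc.Omega A B') := by
  haveI : Module.Finite A₁ B'₁ :=
    Module.Finite.equiv (h.out.equiv : A₁ ⊗[A] B' ≃ₗ[A₁] B'₁)
  haveI : Module.Flat B' B'₁ := Module.Flat.isBaseChange A B' A₁ B'₁ h.symm.out
  obtain ⟨e, he, hen, hfin, hloc, hcomap⟩ := exists_local_factor A₁ B'₁ n
  have hAt := isLocalization_atPrime_factor e he n hcomap
  set C := B'₁ ⧸ Ideal.span {1 - e}
  set S₀ := Localization.AtPrime q₀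
  set M₀ := Algebra.algebraMapSubmonoid B'₁ q₀.primeCompl
  set T' := Localization M₀
  have hT'flat : Module.Flat A₁ T' := flat_localization_baseChange h q₀
  have hM₀ : M₀ ≤ n.primeCompl := by
    rintro _ ⟨b, hb, rfl⟩
    change algebraMap B' B'₁ b ∉ n
    rw [← Ideal.mem_comap, hn]
    exact hb
  -- `C` as a `T'`-algebra
  have hunits : ∀ y : M₀, IsUnit (algebraMap B'₁ C y) := fun y =>
    IsLocalization.map_units (M := n.primeCompl) C ⟨y.1, hM₀ y.2⟩
  letI algT'C : Algebra T' C := (IsLocalization.lift (M := M₀) (g := algebraMap B'₁ C) hunits).toAlgebra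
  haveI towT'C : IsScalarTower B'₁ T' C := IsScalarTower.of_algebraMap_eq fun x => by
    rw [RingHom.algebraMap_toAlgebra, IsLocalization.lift_eq]
  haveI : IsLocalization (n.primeCompl.map (algebraMap B'₁ T')) C :=
    IsLocalization.isLocalization_of_submonoid_le T' C M₀ n.primeCompl hM₀
  haveI hCT' : Module.Flat T' C := IsLocalization.flat C (n.primeCompl.map (algebraMap B'₁ T'))
  haveI towA₁T'C : IsScalarTower A₁ T' C := IsScalarTower.of_algebraMap_eq fun x => by
    rw [IsScalarTower.algebraMap_apply A₁ B'₁ C, IsScalarTower.algebraMap_apply B'₁ T' C,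
      ← IsScalarTower.algebraMap_apply A₁ B'₁ T']
  haveI hCflat : Module.Flat A₁ C := Module.Flat.trans A₁ T' C
  -- `C` as an `S₀`-algebra
  letI algS₀C : Algebra S₀ C := ((algebraMap T' C).comp (algebraMap S₀ T')).toAlgebra
  haveI towS₀T'C : IsScalarTower S₀ T' C := IsScalarTower.of_algebraMap_eq fun x => rfl
  haveI towB'S₀C : IsScalarTower B' S₀ C := IsScalarTower.of_algebraMap_eq fun x => by
    change _ = algebraMap T' C (algebraMap S₀ T' (algebraMap B' S₀ x))
    rw [← IsScalarTower.algebraMap_apply B' S₀ T', IsScalarTower.algebraMap_apply B' B'₁ T',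
      ← IsScalarTower.algebraMap_apply B'₁ T' C, ← IsScalarTower.algebraMap_apply B' B'₁ C]
  haveI hCS₀ : Module.Flat S₀ C := Module.Flat.trans S₀ T' C
  haveI hlocal : IsLocalHom (algebraMap S₀ C) := by
    constructor
    intro x hx
    obtain ⟨b, s, rfl⟩ := IsLocalization.exists_mk'_eq q₀.primeCompl x
    have h1 : IsUnit (algebraMap S₀ C (algebraMap B' S₀ b)) := by
      have h2 : algebraMap B' S₀ b = IsLocalization.mk' S₀ b s * algebraMap B' S₀ s := by
        rw [IsLocalization.mk'_spec]
      rw [h2, map_mul]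
      exact hx.mul ((IsLocalization.map_units S₀ s).map _)
    rw [← IsScalarTower.algebraMap_apply B' S₀ C, IsScalarTower.algebraMap_apply B' B'₁ C] at h1
    have h3 : algebraMap B' B'₁ b ∉ n := by
      intro hmem
      have : algebraMap B'₁ C (algebraMap B' B'₁ b) ∈ maximalIdeal C := by
        rw [← Ideal.mem_comap]
        change algebraMap B' B'₁ b ∈ (maximalIdeal C).comap (Ideal.Quotient.mk _)
        rw [hcomap]
        exact hmem
      exact ((IsLocalRing.mem_maximalIdeal _).mp this) h1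
    have h4 : b ∉ q₀ := by
      rw [← hn, Ideal.mem_comap]
      exact h3
    have hv : IsUnit (algebraMap B' S₀ b) :=
      IsLocalization.map_units (M := q₀.primeCompl) S₀ ⟨b, h4⟩
    rw [← IsLocalization.mk'_spec S₀ b s] at hv
    exact isUnit_of_mul_isUnit_left hv
  haveI hff : Module.FaithfullyFlat S₀ C := Module.FaithfullyFlat.of_flat_of_isLocalHom
  haveI hfree : Module.Free A₁ C := Module.free_of_flat_of_isLocalRing
  haveI towAS₀C : IsScalarTower A S₀ C := IsScalarTower.of_algebraMap_eq fun x => by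
    rw [IsScalarTower.algebraMap_apply A B' S₀, ← IsScalarTower.algebraMap_apply B' S₀ C,
      ← IsScalarTower.algebraMap_apply A B' C]
  -- the chain of isomorphisms
  have hsurj : Function.Surjective (algebraMap B'₁ C) := Ideal.Quotient.mk_surjective
  have hker : RingHom.ker (algebraMap B'₁ C) = Ideal.span {1 - e} := Ideal.mk_ker
  let E1 : C ⊗[S₀] (S₀ ⊗[B'] Disc.Omega A B') ≃ₗ[C] C ⊗[B'] Disc.Omega A B' :=
    AlgebraTensorModule.cancelBaseChange B' S₀ C C (Disc.Omega A B')
  let E2 : C ⊗[B'] Disc.Omega A B' ≃ₗ[C] C ⊗[B'₁] Disc.Omega A₁ B'₁ :=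
    LinearEquiv.ofBijective (QFDual.omegaBC (B₁ := C) h)
      (Groth.Agent.S8958.result A B' A₁ B'₁ C h)
  let E3 : C ⊗[B'₁] Disc.Omega A₁ B'₁ ≃ₗ[C] Disc.Omega A₁ C :=
    (isBaseChange_res (R := A₁) hsurj hker he).equiv
  haveI hΩflat : Module.Flat A₁ (Disc.Omega A₁ C) := Module.Flat.of_linearEquiv (eΩ A₁ C)
  haveI : Module.Flat A (Disc.Omega A₁ C) := Module.Flat.trans A A₁ (Disc.Omega A₁ C)
  haveI : IsScalarTower A C (Disc.Omega A₁ C) := IsScalarTower.of_algebraMap_smul fun _ _ => rfl
  have hflatC : Module.Flat A (C ⊗[S₀] (S₀ ⊗[B'] Disc.Omega A B')) :=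
    Module.Flat.of_linearEquiv ((E1 ≪≫ₗ E2 ≪≫ₗ E3).restrictScalars A)
  exact flat_of_faithfullyFlat_tensor A S₀ C _ hflatC

end Main

end Groth.Agent.H78.QFFlat
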