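import Mathlib
import Groth.Prelude.Def_QFDual
import Groth.Agent.H78.ComplFam.Cq
import Groth.Agent.H78.QFFlat.Core
import Groth.Agent.H3.Henselization

/-!
# Flatness of `ω` at the primes where the finite algebra is flat
-/

set_option autoImplicit false
set_option linter.style.haveILetI false
set_option linter.unusedSectionVars false
universe u

namespace Groth.Agent.H78.QFFlat

open TensorProduct IsLocalRing Groth.Agent.H78.ComplFam

variable (A B' : Type u) [CommRing A] [CommRing B'] [IsNoetherianRing A] [Algebra A B']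

/-- a prime of `Â_p ⊗_A B'` over `q₀` (`p = q₀ ∩ A`) -/
theorem exists_prime_tensor_cq (q₀ : Ideal B') [q₀.IsPrime] :
    ∃ n : Ideal (Cq A (q₀.under A) ⊗[A] B'), n.IsPrime ∧
      n.comap (Algebra.TensorProduct.includeRight :
        B' →ₐ[A] Cq A (q₀.under A) ⊗[A] B').toRingHom = q₀ := by
  haveI : q₀.LiesOver (q₀.under A) := ⟨rfl⟩
  letI := Localization.AtPrime.algebraOfLiesOver (q₀.under A) q₀
  haveI : Module.FaithfullyFlat (Localization.AtPrime (q₀.under A)) (Cq A (q₀.under A)) :=
    cq_faithfullyFlat A (q₀.under A)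
  obtain ⟨nT, hnT, hover⟩ :=
    Ideal.exists_isPrime_liesOver_of_faithfullyFlat (A := Localization.AtPrime q₀)
      (B := Localization.AtPrime q₀ ⊗[Localization.AtPrime (q₀.under A)] Cq A (q₀.under A))
      (maximalIdeal (Localization.AtPrime q₀))
  let f : Cq A (q₀.under A) →ₐ[A]
      Localization.AtPrime q₀ ⊗[Localization.AtPrime (q₀.under A)] Cq A (q₀.under A) :=
    (Algebra.TensorProduct.includeRight : Cq A (q₀.under A) →ₐ[Localization.AtPrime (q₀.under A)]
      Localization.AtPrime q₀ ⊗[Localization.AtPrime (q₀.under A)]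
        Cq A (q₀.under A)).restrictScalars A
  let g : B' →ₐ[A]
      Localization.AtPrime q₀ ⊗[Localization.AtPrime (q₀.under A)] Cq A (q₀.under A) :=
    ((Algebra.TensorProduct.includeLeft : Localization.AtPrime q₀ →ₐ[Localization.AtPrime (q₀.under A)]
      Localization.AtPrime q₀ ⊗[Localization.AtPrime (q₀.under A)]
        Cq A (q₀.under A)).restrictScalars A).comp
      (IsScalarTower.toAlgHom A B' (Localization.AtPrime q₀))
  have hfg : ∀ (x : Cq A (q₀.under A)) (y : B'), Commute (f x) (g y) :=
    fun x y => mul_comm (f x) (g y)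
  refine ⟨nT.comap (Algebra.TensorProduct.lift f g hfg).toRingHom, Ideal.comap_isPrime _ _, ?_⟩
  rw [Ideal.comap_comap]
  have h1 : (Algebra.TensorProduct.lift f g hfg).toRingHom.comp
      (Algebra.TensorProduct.includeRight : B' →ₐ[A] Cq A (q₀.under A) ⊗[A] B').toRingHom =
      (algebraMap (Localization.AtPrime q₀)
        (Localization.AtPrime q₀ ⊗[Localization.AtPrime (q₀.under A)] Cq A (q₀.under A))).comp
        (algebraMap B' (Localization.AtPrime q₀)) := by
    ext b
    change Algebra.TensorProduct.lift f g hfg (1 ⊗ₜ[A] b) = _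
    rw [Algebra.TensorProduct.lift_tmul]
    have hf1 : f 1 = 1 := rfl
    rw [hf1]
    exact one_mul (g b)
  rw [h1, ← Ideal.comap_comap]
  have h2 : nT.comap (algebraMap (Localization.AtPrime q₀)
      (Localization.AtPrime q₀ ⊗[Localization.AtPrime (q₀.under A)] Cq A (q₀.under A))) =
      maximalIdeal (Localization.AtPrime q₀) := (hover.over).symm
  rw [h2]
  exact IsLocalization.AtPrime.under_maximalIdeal _ q₀

attribute [local instance] Algebra.TensorProduct.rightAlgebra in
/-- **Flatness of `ω` at flat points.**  For a finite algebra `B'` over a Noetherian ring `A`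
and a prime `q₀` of `B'` such that `B'_{q₀}` is `A`-flat, the localization `Hom_A(B', A)_{q₀}`
is `A`-flat. -/
theorem flat_localization_omega [Module.Finite A B'] (q₀ : Ideal B') [q₀.IsPrime]
    [Module.Flat A (Localization.AtPrime q₀)] :
    Module.Flat A (Localization.AtPrime q₀ ⊗[B'] Disc.Omega A B') := by
  obtain ⟨n, hn, hcomap⟩ := exists_prime_tensor_cq A B' q₀
  haveI := hn
  haveI : Module.Flat A (Cq A (q₀.under A)) := cq_flat A (q₀.under A)
  haveI : IsNoetherianRing (Cq A (q₀.under A)) := inferInstance
  haveI : HenselianLocalRing (Cq A (q₀.under A)) := by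
    apply Groth.Agent.H3.henselianLocalRing_of_henselianRing
    rw [AdicCompletion.maximalIdeal_eq_map]
    have hc : IsAdicComplete ((maximalIdeal (Localization.AtPrime (q₀.under A))).map
        (algebraMap (Localization.AtPrime (q₀.under A)) (Cq A (q₀.under A))))
        (Cq A (q₀.under A)) :=
      AdicCompletion.isAdicComplete_self _ (Ideal.fg_of_isNoetherianRing _)
    exact IsAdicComplete.henselianRing _ _
  have hcomap' : n.comap (algebraMap B' (Cq A (q₀.under A) ⊗[A] B')) = q₀ := hcomap
  haveI : n.LiesOver (maximalIdeal (Cq A (q₀.under A))) := by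
    constructor
    have hle : maximalIdeal (Cq A (q₀.under A)) ≤
        n.comap (algebraMap (Cq A (q₀.under A)) (Cq A (q₀.under A) ⊗[A] B')) := by
      rw [cq_maximalIdeal, Ideal.map_le_iff_le_comap]
      intro a ha
      rw [Ideal.mem_comap, Ideal.mem_comap, ← IsScalarTower.algebraMap_apply,
        IsScalarTower.algebraMap_apply A B' (Cq A (q₀.under A) ⊗[A] B'), ← Ideal.mem_comap,
        hcomap']
      exact ha
    have hne : n.comap (algebraMap (Cq A (q₀.under A)) (Cq A (q₀.under A) ⊗[A] B')) ≠ ⊤ :=
      (Ideal.comap_isPrime _ n).ne_top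
    exact ((maximalIdeal.isMaximal _).eq_of_le hne hle)
  exact flat_localization_omega_of_henselian (A₁ := Cq A (q₀.under A))
    (B'₁ := Cq A (q₀.under A) ⊗[A] B') inferInstance q₀ n hcomap'

end Groth.Agent.H78.QFFlat
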